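import Cfsg.Agent.Lib.PSolvable.Constrained

/-!
Isomorphism invariance of `p`-constraint, and `p`-constraint from the centralizer of a normal
`p`-subgroup (helper60).
-/

namespace Cfsg.Agent.Lib.PSolvable

open Cfsg

variable {G : Type*} [Group G] [Finite G] {p : ℕ} {H : Type*} [Group H] [Finite H]

theorem centralizer_pCore_le_of_surjective_of_isPConstrained [Fact p.Prime] (f : G →* H)
    (hf : Function.Surjective f) (hk : (Nat.card f.ker).Coprime p) (h0 : pPrimeCore p H = ⊥)
    (hG : IsPConstrained p G) : Subgroup.centralizer (pCore p H : Set H) ≤ pCore p H := by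
  have hker : f.ker = pPrimeCore p G := by
    refine le_antisymm (le_pPrimeCore hk) fun x hx => ?_
    have h1 := map_pPrimeCore_le (p := p) hf (Subgroup.mem_map_of_mem f hx)
    rw [h0, Subgroup.mem_bot] at h1
    exact MonoidHom.mem_ker.mpr h1
  exact centralizer_pCore_le_of_equiv ((QuotientGroup.quotientMulEquivOfEq hker.symm).trans
    (QuotientGroup.quotientKerEquivOfSurjective f hf)) (isPConstrained_iff.mp hG)

theorem isPConstrained_congr [Fact p.Prime] (e : G ≃* H) (hG : IsPConstrained p G) :
    IsPConstrained p H := by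
  have hK : (Nat.card (pPrimeCore p H)).Coprime p := pPrimeCore_coprime
  have hs : Function.Surjective ((QuotientGroup.mk' (pPrimeCore p H)).comp e.toMonoidHom) :=
    (QuotientGroup.mk'_surjective _).comp e.surjective
  refine isPConstrained_iff.mpr
    (centralizer_pCore_le_of_surjective_of_isPConstrained _ hs ?_ pPrimeCore_quotient_eq_bot hG)
  rw [← MonoidHom.comap_ker, QuotientGroup.ker_mk',
    show (pPrimeCore p H).comap e.toMonoidHom = (pPrimeCore p H).map e.symm.toMonoidHom from
      Subgroup.comap_equiv_eq_map_symm e _, Subgroup.card_map_of_injective e.symm.injective]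
  exact hK

/-- If the centralizer of a normal `p`-subgroup is `p`-constrained then so is the group. -/
theorem isPConstrained_of_centralizer_normal [Fact p.Prime] (T : Subgroup G) [hTn : T.Normal]
    (hT : IsPGroup p T) (hC : IsPConstrained p (Subgroup.centralizer (T : Set G))) :
    IsPConstrained p G := by
  set K := pPrimeCore p G with hK
  set f := QuotientGroup.mk' K with hfdef
  set C := Subgroup.centralizer (T : Set G) with hCdef
  have hfs : Function.Surjective f := QuotientGroup.mk'_surjective K
  rw [isPConstrained_iff]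
  have hCn : (C.map f).Normal := Subgroup.Normal.map inferInstance f hfs
  have h0 : pPrimeCore p (C.map f) = ⊥ := by
    rw [← Subgroup.map_eq_bot_iff_of_injective _ (C.map f).subtype_injective,
      map_subtype_pPrimeCore_of_normal, pPrimeCore_quotient_eq_bot, bot_inf_eq]
  have hCc := centralizer_pCore_le_of_surjective_of_isPConstrained (f.subgroupMap C)
    (MonoidHom.subgroupMap_surjective _ _) (coprime_ker_subgroupMap K pPrimeCore_coprime C) h0 hC
  have : (T.map f).Normal := Subgroup.Normal.map hTn f hfs
  have hTle : T.map f ≤ pCore p (G ⧸ K) := le_pCore (hT.map f)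
  have hTK : T ⊓ K = ⊥ := inf_eq_bot_of_isPGroup_of_coprime hT pPrimeCore_coprime
  intro y hy
  obtain ⟨x, rfl⟩ := hfs y
  have hxC : x ∈ C := Subgroup.mem_centralizer_iff.mpr fun t ht => by
    have h1 := Subgroup.mem_centralizer_iff.mp hy _ (hTle (Subgroup.mem_map_of_mem f ht))
    have h2 : x * t * x⁻¹ * t⁻¹ ∈ T ⊓ K := by
      refine ⟨T.mul_mem (hTn.conj_mem t ht x) (T.inv_mem ht), ?_⟩
      refine (QuotientGroup.eq_one_iff _).mp ?_
      change f (x * t * x⁻¹ * t⁻¹) = 1
      simp only [map_mul, map_inv]
      rw [← h1, mul_inv_cancel_right, mul_inv_cancel]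
    rw [hTK, Subgroup.mem_bot, mul_inv_eq_one, mul_inv_eq_iff_eq_mul] at h2
    exact h2.symm
  have hmem : (⟨f x, Subgroup.mem_map_of_mem f hxC⟩ : C.map f) ∈
      Subgroup.centralizer (pCore p (C.map f) : Set (C.map f)) :=
    Subgroup.mem_centralizer_iff.mpr fun r hr => by
      have h1 : (r : G ⧸ K) ∈ pCore p (G ⧸ K) ⊓ C.map f := by
        rw [← map_subtype_pCore_of_normal (C.map f)]
        exact Subgroup.mem_map_of_mem _ hr
      exact Subtype.ext (Subgroup.mem_centralizer_iff.mp hy _ h1.1)
  have h2 := Subgroup.mem_map_of_mem (C.map f).subtype (hCc hmem)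
  rw [map_subtype_pCore_of_normal (C.map f)] at h2
  exact h2.1

/-- If centralisers of elements of order `p` are `p`-constrained, so are all normalisers of nontrivial
`p`-subgroups (the whole group included). -/
theorem isPConstrained_normalizer_of_centralizers [Fact p.Prime]
    (h : ∀ x : G, orderOf x = p → IsPConstrained p (Subgroup.centralizer ({x} : Set G)))
    {T : Subgroup G} (hT : IsPGroup p T) (hT1 : T ≠ ⊥) :
    IsPConstrained p (Subgroup.normalizer (T : Set G)) := by
  obtain ⟨x, hxT, hx, hxc⟩ : ∃ x ∈ T, orderOf x = p ∧ ∀ t ∈ T, t * x = x * t := by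
    haveI : Nontrivial ↥T := (Subgroup.nontrivial_iff_ne_bot T).mpr hT1
    haveI : Nontrivial ↥(Subgroup.center ↥T) := hT.center_nontrivial
    obtain ⟨n, hn0, hn⟩ :=
      (hT.to_subgroup (Subgroup.center ↥T)).nontrivial_iff_card.mp inferInstance
    obtain ⟨z, hz⟩ := exists_prime_orderOf_dvd_card' (G := Subgroup.center ↥T) p
      (hn ▸ dvd_pow_self p hn0.ne')
    exact ⟨((z : T) : G), (z : T).2, ((Subgroup.orderOf_coe _).trans (Subgroup.orderOf_coe _)).trans hz,
      fun t ht => congrArg Subtype.val (Subgroup.mem_center_iff.mp z.2 ⟨t, ht⟩)⟩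
  have hC := h x hx
  set N := Subgroup.normalizer (T : Set G) with hN
  have hTN : T ≤ N := Subgroup.le_normalizer
  set Cx := Subgroup.centralizer ({x} : Set G)
  have hTC : T ≤ Cx := fun t ht => Subgroup.mem_centralizer_singleton_iff.mpr (hxc t ht)
  have hCT : Subgroup.centralizer (T : Set G) ≤ Cx := fun c hc =>
    Subgroup.mem_centralizer_singleton_iff.mpr (Subgroup.mem_centralizer_iff.mp hc x hxT).symm
  have hsub : ∀ X : Subgroup G, T ≤ X → (Subgroup.centralizer (T : Set G)).subgroupOf X =
      Subgroup.centralizer ((T.subgroupOf X : Subgroup X) : Set X) := by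
    intro X hTX
    ext c
    simp only [Subgroup.mem_subgroupOf, Subgroup.mem_centralizer_iff, SetLike.mem_coe]
    exact ⟨fun hc t ht => Subtype.ext (hc t ht),
      fun hc t ht => congrArg Subtype.val (hc ⟨t, hTX ht⟩ ht)⟩
  have hCTc : IsPConstrained p ↥(Subgroup.centralizer (T : Set G)) := by
    have hTp : IsPGroup p ↥(T.subgroupOf Cx) := hT.comap_subtype
    have h1 := isPConstrained_centralizer hC hTp
    rw [← hsub Cx hTC] at h1
    exact isPConstrained_congr (Subgroup.subgroupOfEquivOfLe hCT) h1
  haveI : (T.subgroupOf N).Normal := Subgroup.normal_in_normalizer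
  refine isPConstrained_of_centralizer_normal (T.subgroupOf N)
    (hT.comap_subtype (K := N)) ?_
  rw [← hsub N hTN]
  exact isPConstrained_congr
    (Subgroup.subgroupOfEquivOfLe (Subgroup.centralizer_le_normalizer _)).symm hCTc

end Cfsg.Agent.Lib.PSolvable
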