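import Mathlib
import Cfsg.Agent.Lib.Coprime.Sylow
import Cfsg.Agent.Lib.Coprime.FixedProduct
import Cfsg.Agent.Lib.PSolvable.CoprimeQuot
import Cfsg.Agent.Lib.PSolvable.PSolv

/-!
# Number of conjugates of an element meeting a Sylow subgroup, in a `p`-soluble group

With `hits P x = #{g | g x g⁻¹ ∈ P}`: `(∏_{x ∈ P} hits P x) ^ p ≤ |G| ^ |P| |N_G(P)| ^ ((p-1)|P|)`.
-/

set_option autoImplicit false

namespace Cfsg.Agent.Lib.PSolvable

open Cfsg Cfsg.Agent.Lib.Coprime

universe u

variable {G : Type u} [Group G] {p : ℕ}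

/-- The number of elements conjugating `x` into `P`. -/
noncomputable def hits (P : Subgroup G) (x : G) : ℕ := Nat.card {g : G // g * x * g⁻¹ ∈ P}

theorem hits_conj (P : Subgroup G) (x h : G) : hits P (h * x * h⁻¹) = hits P x :=
  Nat.card_congr ((Equiv.mulRight h).subtypeEquiv fun g => by
    show g * (h * x * h⁻¹) * g⁻¹ ∈ P ↔ g * h * x * (g * h)⁻¹ ∈ P
    simp only [mul_inv_rev, mul_assoc])

variable [Finite G] [Fact p.Prime]

theorem ordProj_card_inf_centralizer {q : ℕ} [Fact q.Prime] {P N A : Subgroup G} [N.Normal]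
    (hA : A ≤ P) (hAs : Group.IsSolvable A) (hcop : (Nat.card A).Coprime (Nat.card N))
    {Qs : Sylow q N}
    (hQ : P ≤ Subgroup.normalizer (((Qs : Subgroup N).map N.subtype : Subgroup G) : Set G)) :
    Nat.card ((Qs : Subgroup N).map N.subtype ⊓ Subgroup.centralizer (A : Set G) : Subgroup G) =
      q ^ (Nat.card (N ⊓ Subgroup.centralizer (A : Set G) : Subgroup G)).factorization q := by
  set Q' := (Qs : Subgroup N).map N.subtype with hQ'
  set C := N ⊓ Subgroup.centralizer (A : Set G) with hC
  obtain ⟨U⟩ : Nonempty (Sylow q C) := inferInstance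
  rw [← U.card_eq_multiplicity]
  refine le_antisymm ?_ ?_
  · have hle : Q' ⊓ Subgroup.centralizer (A : Set G) ≤ C :=
      inf_le_inf_right _ (Subgroup.map_subtype_le _)
    have hp : IsPGroup q (Q' ⊓ Subgroup.centralizer (A : Set G) : Subgroup G) :=
      (Qs.2.map N.subtype).to_le inf_le_left
    obtain ⟨T, hT⟩ := (IsPGroup.of_equiv hp (Subgroup.subgroupOfEquivOfLe hle).symm).exists_le_sylow
    rw [← Nat.card_congr (Subgroup.subgroupOfEquivOfLe hle).toEquiv, U.card_eq_multiplicity,
      ← T.card_eq_multiplicity]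
    exact Nat.le_of_dvd Nat.card_pos (Subgroup.card_dvd_of_le hT)
  · set U' := (U : Subgroup C).map C.subtype with hU'
    have hU'C : U' ≤ C := Subgroup.map_subtype_le _
    have hAU : A ≤ Subgroup.normalizer (U' : Set G) := fun a ha => by
      refine Subgroup.centralizer_le_normalizer _ (Subgroup.mem_centralizer_iff.mpr fun u hu => ?_)
      exact ((Subgroup.mem_centralizer_iff.mp (hU'C hu).2) a ha).symm
    obtain ⟨c, hc, hcU⟩ := exists_centralizer_conj_le (K := N) Subgroup.le_normalizer_of_normal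
      hcop (Or.inl hAs) (hA.trans hQ) (hU'C.trans inf_le_left) (U.2.map C.subtype) hAU
    rw [← Subgroup.card_map_of_injective C.subtype_injective (K := (U : Subgroup C)), ← hU',
      ← Subgroup.card_map_of_injective (f := (MulAut.conj c).toMonoidHom) (MulAut.conj c).injective (K := U')]
    refine Nat.le_of_dvd Nat.card_pos (Subgroup.card_dvd_of_le ?_)
    rintro _ ⟨u, hu, rfl⟩
    refine ⟨hcU u hu, Subgroup.mem_centralizer_iff.mpr fun a ha => ?_⟩
    show a * (c * u * c⁻¹) = c * u * c⁻¹ * a
    have h1 : Commute a c := Subgroup.mem_centralizer_iff.mp hc.2 a ha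
    have h2 : Commute a u := Subgroup.mem_centralizer_iff.mp (hU'C hu).2 a ha
    exact ((h1.mul_right h2).mul_right h1.inv_right).eq

/-- Coprime action inside a group: the product bound for centralizer orders. -/
theorem prod_card_inf_centralizer_le (P N : Subgroup G) [N.Normal] [Fintype P] (hP : IsPGroup p P)
    (hN : (Nat.card N).Coprime p) :
    (∏ x : P, Nat.card (N ⊓ Subgroup.centralizer ({(x : G)} : Set G) : Subgroup G)) ^ p ≤
      Nat.card N ^ Fintype.card P *
        Nat.card (N ⊓ Subgroup.centralizer (P : Set G) : Subgroup G) ^ ((p - 1) * Fintype.card P) := by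
  classical
  have hne : ∀ H : Subgroup G, Nat.card H ≠ 0 := fun H => Nat.card_pos.ne'
  refine Nat.le_of_dvd (Nat.pos_of_ne_zero (mul_ne_zero (pow_ne_zero _ (hne _)) (pow_ne_zero _ (hne _)))) ?_
  rw [← Nat.factorization_le_iff_dvd (pow_ne_zero _ (Finset.prod_ne_zero_iff.mpr fun x _ => hne _))
    (mul_ne_zero (pow_ne_zero _ (hne _)) (pow_ne_zero _ (hne _)))]
  intro q
  rw [Nat.factorization_pow, Nat.factorization_prod fun x _ => hne _,
    Nat.factorization_mul (pow_ne_zero _ (hne _)) (pow_ne_zero _ (hne _)), Nat.factorization_pow,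
    Nat.factorization_pow]
  simp only [Finsupp.smul_apply, Finsupp.coe_finset_sum, Finset.sum_apply, Finsupp.add_apply, smul_eq_mul]
  by_cases hqp : q.Prime
  swap
  · simp [Nat.factorization_eq_zero_of_not_prime _ hqp]
  haveI := Fact.mk hqp
  by_cases hpq : p = q
  · subst hpq
    have h0 : ∀ H : Subgroup G, H ≤ N → (Nat.card H).factorization p = 0 := fun H hH =>
      Nat.factorization_eq_zero_of_not_dvd fun h =>
        (Nat.Prime.coprime_iff_not_dvd Fact.out).mp hN.symm (h.trans (Subgroup.card_dvd_of_le hH))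
    rw [Finset.sum_eq_zero fun x _ => h0 _ inf_le_left, h0 N le_rfl, h0 _ inf_le_left]
    simp
  have hcopA : ∀ A : Subgroup G, A ≤ P → (Nat.card A).Coprime (Nat.card N) := fun A hA => by
    obtain ⟨k, hk⟩ := IsPGroup.iff_card.mp (hP.to_le hA)
    rw [hk]; exact hN.symm.pow_left k
  have hsolv : ∀ A : Subgroup G, A ≤ P → Group.IsSolvable A := fun A hA => by
    haveI := (hP.to_le hA).isNilpotent
    infer_instance
  obtain ⟨Qs, hQs⟩ := exists_invariant_sylow (p := q) (A := P) (K := N)
    Subgroup.le_normalizer_of_normal (hcopA P le_rfl) (Or.inl (hsolv P le_rfl))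
  set Q' := (Qs : Subgroup N).map N.subtype with hQ'
  have hfix : ∀ A : Subgroup P, Nat.card (fixedSub (conjAut hQs) A) =
      q ^ (Nat.card (N ⊓ Subgroup.centralizer ((A.map P.subtype : Subgroup G) : Set G) : Subgroup G)).factorization q := by
    intro A
    rw [← ordProj_card_inf_centralizer (Subgroup.map_subtype_le A) (hsolv _ (Subgroup.map_subtype_le A))
      (hcopA _ (Subgroup.map_subtype_le A)) hQs]
    refine Nat.card_congr
      { toFun := fun k => ⟨((k.1 : Q') : G), k.1.2, Subgroup.mem_centralizer_iff.mpr ?_⟩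
        invFun := fun g => ⟨⟨g.1, g.2.1⟩, fun a ha => Subtype.ext ?_⟩
        left_inv := fun k => rfl
        right_inv := fun g => rfl }
    · rintro _ ⟨a, ha, rfl⟩
      have := congrArg Subtype.val (k.2 a ha)
      rw [conjAut_coe, mul_inv_eq_iff_eq_mul] at this
      exact this
    · rw [conjAut_coe, mul_inv_eq_iff_eq_mul]
      exact Subgroup.mem_centralizer_iff.mp g.2.2 _ ⟨a, ha, rfl⟩
  have main := prod_card_fixedSub_le hpq hP (Qs.2.map N.subtype) (conjAut hQs)
  have hfx : ∀ x : P, Nat.card (fixedSub (conjAut hQs) (Subgroup.zpowers x)) =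
      q ^ (Nat.card (N ⊓ Subgroup.centralizer ({(x : G)} : Set G) : Subgroup G)).factorization q := fun x => by
    rw [hfix, MonoidHom.map_zpowers, Subgroup.zpowers_eq_closure, Subgroup.centralizer_closure]
    rfl
  have hft : Nat.card (fixedSub (conjAut hQs) ⊤) =
      q ^ (Nat.card (N ⊓ Subgroup.centralizer (P : Set G) : Subgroup G)).factorization q := by
    rw [hfix, ← MonoidHom.range_eq_map, Subgroup.range_subtype]
  rw [Finset.prod_congr rfl fun x _ => hfx x, hft] at main
  rw [Subgroup.card_map_of_injective N.subtype_injective, Qs.card_eq_multiplicity,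
    Finset.prod_pow_eq_pow_sum, ← pow_mul, ← pow_mul, ← pow_mul, ← pow_add,
    Nat.pow_le_pow_iff_right hqp.one_lt] at main
  convert main using 1 <;> ring

/-- The main bound, by induction along a `p`-soluble series. -/
theorem prod_hits_le : ∀ (n : ℕ) (G : Type u) [Group G] [Finite G], Nat.card G = n →
    IsPSolvable p G → ∀ (P : Sylow p G) [Fintype (P : Subgroup G)],
    (∏ x : (P : Subgroup G), hits (P : Subgroup G) (x : G)) ^ p ≤
      Nat.card G ^ Fintype.card (P : Subgroup G) *
        Nat.card (Subgroup.normalizer ((P : Subgroup G) : Set G)) ^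
          ((p - 1) * Fintype.card (P : Subgroup G)) := by
  classical
  intro n
  induction n using Nat.strong_induction_on with
  | _ n ih =>
    intro G _ _ hn hG P _
    have hp : p.Prime := Fact.out
    rcases subsingleton_or_nontrivial G with hsub | hnt
    · have h1 : ∀ x : G, hits (P : Subgroup G) x = 1 := fun x => by
        haveI : Nonempty {g : G // g * x * g⁻¹ ∈ (P : Subgroup G)} :=
          ⟨⟨1, by rw [Subsingleton.elim ((1 : G) * x * 1⁻¹) 1]; exact one_mem _⟩⟩
        exact Nat.card_unique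
      simp [h1, Nat.card_unique]
    obtain ⟨N, hN, -, hN1, hNpp⟩ := exists_normal_le_of_isPSolvable (⊤ : Subgroup G) top_ne_bot
      (isPSolvable_subgroup hG ⊤)
    haveI := hN
    set Pb : Sylow p (G ⧸ N) := P.mapSurjective (QuotientGroup.mk'_surjective N) with hPb
    have hPbc : (Pb : Subgroup (G ⧸ N)) = (P : Subgroup G).map (QuotientGroup.mk' N) :=
      Sylow.coe_mapSurjective _ _
    haveI : Fintype (Pb : Subgroup (G ⧸ N)) := Fintype.ofFinite _
    have hcardG := Subgroup.card_eq_card_quotient_mul_card_subgroup N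
    have hlt : Nat.card (G ⧸ N) < n := by
      rw [← hn, hcardG]
      exact lt_mul_of_one_lt_right Nat.card_pos (N.one_lt_card_iff_ne_bot.mpr hN1)
    have IH := ih _ hlt (G ⧸ N) rfl (isPSolvable_quotient hG N) Pb
    have hmem : ∀ g : G, g ∈ (P : Subgroup G) → (g : G ⧸ N) ∈ (Pb : Subgroup (G ⧸ N)) := fun g hg => by
      rw [hPbc]; exact ⟨g, hg, rfl⟩
    let πP : (P : Subgroup G) →* (Pb : Subgroup (G ⧸ N)) :=
      ((QuotientGroup.mk' N).comp (P : Subgroup G).subtype).codRestrict _ fun x => hmem x x.2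
    have hπs : Function.Surjective πP := fun y => by
      obtain ⟨y, hy⟩ := y
      obtain ⟨g, hg, rfl⟩ : y ∈ (P : Subgroup G).map (QuotientGroup.mk' N) := hPbc ▸ hy
      exact ⟨⟨g, hg⟩, rfl⟩
    rcases hNpp with hNp | hNc
    · -- a normal `p`-subgroup
      have hNP : N ≤ (P : Subgroup G) := hNp.le_sylow_of_normal P
      have hcm : (Pb : Subgroup (G ⧸ N)).comap (QuotientGroup.mk' N) = (P : Subgroup G) := by
        rw [hPbc, Subgroup.comap_map_eq, QuotientGroup.ker_mk', sup_eq_left.mpr hNP]
      have hhit : ∀ x : G, hits (P : Subgroup G) x = Nat.card N * hits (Pb : Subgroup (G ⧸ N)) (x : G ⧸ N) := by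
        intro x
        rw [hits, hits, ← Nat.card_prod]
        refine Nat.card_congr (Equiv.trans ?_
          (QuotientGroup.preimageMkEquivSubgroupProdSet N {q : G ⧸ N | q * (x : G ⧸ N) * q⁻¹ ∈ (Pb : Subgroup (G ⧸ N))}))
        exact Equiv.subtypeEquivRight fun g => (Subgroup.ext_iff.mp hcm (g * x * g⁻¹)).symm
      have hN' : Nat.card (Subgroup.normalizer ((P : Subgroup G) : Set G)) =
          Nat.card N * Nat.card (Subgroup.normalizer ((Pb : Subgroup (G ⧸ N)) : Set (G ⧸ N))) := by
        have h1 := Subgroup.comap_normalizer_eq_of_surjective (Pb : Subgroup (G ⧸ N))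
          (QuotientGroup.mk'_surjective N)
        rw [hcm] at h1
        rw [← h1, card_comap_mk', mul_comm]
      have hfib : ∀ y, Fintype.card {x // πP x = y} = Nat.card N := by
        intro y
        obtain ⟨x₀, rfl⟩ := hπs y
        rw [← Nat.card_eq_fintype_card]
        refine Nat.card_congr
          { toFun := fun x => ⟨(x₀ : G)⁻¹ * x.1, (QuotientGroup.eq).mp (congrArg Subtype.val x.2).symm⟩
            invFun := fun v => ⟨x₀ * ⟨v.1, hNP v.2⟩, Subtype.ext (QuotientGroup.mk_mul_of_mem _ v.2)⟩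
            left_inv := fun x => Subtype.ext (Subtype.ext (mul_inv_cancel_left _ _))
            right_inv := fun v => Subtype.ext (inv_mul_cancel_left _ _) }
      have hprod : ∏ x : (P : Subgroup G), hits (Pb : Subgroup (G ⧸ N)) (((x : G) : G ⧸ N)) =
          (∏ y : (Pb : Subgroup (G ⧸ N)), hits (Pb : Subgroup (G ⧸ N)) (y : G ⧸ N)) ^ Nat.card N := by
        rw [← Finset.prod_fiberwise Finset.univ πP, ← Finset.prod_pow]
        refine Finset.prod_congr rfl fun y _ => ?_
        rw [Finset.prod_congr rfl (g := fun _ => hits (Pb : Subgroup (G ⧸ N)) (y : G ⧸ N)) fun x hx => by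
            rw [← (Finset.mem_filter.mp hx).2]; rfl,
          Finset.prod_const, ← hfib y, Fintype.card_subtype]
      have hcP : Fintype.card (P : Subgroup G) = Fintype.card (Pb : Subgroup (G ⧸ N)) * Nat.card N := by
        rw [← Fintype.card_congr (Equiv.sigmaFiberEquiv πP), Fintype.card_sigma,
          Finset.sum_congr rfl fun y _ => hfib y, Finset.sum_const, smul_eq_mul, Finset.card_univ]
      simp only [hhit, Finset.prod_mul_distrib, Finset.prod_const, Finset.card_univ]
      rw [hprod, hN', hcardG, hcP, mul_pow]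
      calc ((Nat.card N) ^ (Fintype.card (Pb : Subgroup (G ⧸ N)) * Nat.card N)) ^ p *
            ((∏ y : (Pb : Subgroup (G ⧸ N)), hits (Pb : Subgroup (G ⧸ N)) (y : G ⧸ N)) ^ Nat.card N) ^ p
          ≤ ((Nat.card N) ^ (Fintype.card (Pb : Subgroup (G ⧸ N)) * Nat.card N)) ^ p *
            (Nat.card (G ⧸ N) ^ Fintype.card (Pb : Subgroup (G ⧸ N)) *
              Nat.card (Subgroup.normalizer ((Pb : Subgroup (G ⧸ N)) : Set (G ⧸ N))) ^
                ((p - 1) * Fintype.card (Pb : Subgroup (G ⧸ N)))) ^ Nat.card N := by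
            exact Nat.mul_le_mul le_rfl ((le_of_eq (by rw [← pow_mul, ← pow_mul, mul_comm])).trans
              (Nat.pow_le_pow_left IH _))
        _ = _ := by
            obtain ⟨p', rfl⟩ : ∃ p', p = p' + 1 := ⟨p - 1, by have := hp.pos; omega⟩
            simp only [Nat.add_sub_cancel, mul_pow, ← pow_mul]
            ring
    · -- a normal `p'`-subgroup
      have hPN : (P : Subgroup G) ⊓ N = ⊥ := inf_eq_bot_of_isPGroup_of_coprime P.2 hNc
      have hπi : Function.Injective πP := (injective_iff_map_eq_one πP).mpr fun x hx => by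
        have h1 : (x : G) ∈ N := (QuotientGroup.eq_one_iff _).mp (congrArg Subtype.val hx)
        have h2 : (x : G) ∈ (P : Subgroup G) ⊓ N := ⟨x.2, h1⟩
        rw [hPN, Subgroup.mem_bot] at h2
        exact Subtype.ext h2
      have hhit : ∀ x ∈ (P : Subgroup G), hits (P : Subgroup G) x =
          hits (Pb : Subgroup (G ⧸ N)) (x : G ⧸ N) *
            Nat.card (N ⊓ Subgroup.centralizer ({x} : Set G) : Subgroup G) := by
        intro x hx
        obtain ⟨k, hk⟩ := IsPGroup.iff_orderOf.mp P.2 ⟨x, hx⟩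
        rw [Subgroup.orderOf_mk] at hk
        have hlift : ∀ r : {r : G ⧸ N // r * (x : G ⧸ N) * r⁻¹ ∈ (Pb : Subgroup (G ⧸ N))},
            ∃ g : G, g * x * g⁻¹ ∈ (P : Subgroup G) ∧ (g : G ⧸ N) = r.1 := by
          rintro ⟨r, hr⟩
          obtain ⟨g₀, rfl⟩ := QuotientGroup.mk_surjective r
          set H := (Pb : Subgroup (G ⧸ N)).comap (QuotientGroup.mk' N) with hH
          have hHeq : H = N ⊔ (P : Subgroup G) := by
            rw [hH, hPbc, Subgroup.comap_map_eq, QuotientGroup.ker_mk', sup_comm]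
          have hy : g₀ * x * g₀⁻¹ ∈ H := hr
          have hPH : (P : Subgroup G) ≤ H := fun g hg => hmem g hg
          have hpy : IsPGroup p ((Subgroup.zpowers (g₀ * x * g₀⁻¹)).subgroupOf H) := by
            refine IsPGroup.comap_subtype (IsPGroup.of_card (n := k) ?_)
            rw [Nat.card_zpowers, ← hk]
            exact orderOf_injective (MulAut.conj g₀).toMonoidHom (MulAut.conj g₀).injective x
          obtain ⟨R, hR⟩ := hpy.exists_le_sylow
          obtain ⟨⟨h, hh⟩, hconj⟩ := MulAction.exists_smul_eq H R (P.subtype hPH)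
          have h3 : h * (g₀ * x * g₀⁻¹) * h⁻¹ ∈ (P : Subgroup G) := by
            have h1 : (MulAut.conj (⟨h, hh⟩ : H)) ⟨g₀ * x * g₀⁻¹, hy⟩ ∈
                ((P.subtype hPH : Sylow p H) : Subgroup H) := by
              rw [← hconj]
              exact Subgroup.smul_mem_pointwise_smul _ _ _ (hR (Subgroup.mem_zpowers (g₀ * x * g₀⁻¹)))
            exact h1
          have hh' : h ∈ (P : Subgroup G) ⊔ N := by rw [sup_comm, ← hHeq]; exact hh
          obtain ⟨r', hr', n', hn', hrn⟩ := Subgroup.mem_sup_of_normal_right.mp hh'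
          refine ⟨n' * g₀, ?_, by rw [QuotientGroup.mk_mul, (QuotientGroup.eq_one_iff n').mpr hn', one_mul]⟩
          have h4 := mul_mem (mul_mem (inv_mem hr') h3) hr'
          rw [← hrn] at h4
          convert h4 using 1
          group
        choose sec hsec1 hsec2 using hlift
        have hdown : ∀ g : G, g * x * g⁻¹ ∈ (P : Subgroup G) →
            (g : G ⧸ N) * (x : G ⧸ N) * (g : G ⧸ N)⁻¹ ∈ (Pb : Subgroup (G ⧸ N)) := fun g hg => hmem _ hg
        rw [hits, hits, ← Nat.card_prod]
        symm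
        refine Nat.card_congr (Equiv.ofBijective
          (fun rc : {r : G ⧸ N // r * (x : G ⧸ N) * r⁻¹ ∈ (Pb : Subgroup (G ⧸ N))} ×
              (N ⊓ Subgroup.centralizer ({x} : Set G) : Subgroup G) =>
            (⟨sec rc.1 * (rc.2 : G), by
              have hc : Commute (rc.2 : G) x := (Subgroup.mem_centralizer_singleton_iff.mp rc.2.2.2)
              rw [show sec rc.1 * (rc.2 : G) * x * (sec rc.1 * (rc.2 : G))⁻¹ =
                sec rc.1 * ((rc.2 : G) * x * (rc.2 : G)⁻¹) * (sec rc.1)⁻¹ by group, hc.eq,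
                mul_inv_cancel_right]
              exact hsec1 rc.1⟩ : {g : G // g * x * g⁻¹ ∈ (P : Subgroup G)})) ⟨?_, ?_⟩)
        · rintro ⟨r, c⟩ ⟨r', c'⟩ he
          have he' : sec r * (c : G) = sec r' * (c' : G) := congrArg Subtype.val he
          have h1 := congrArg (fun g : G => (g : G ⧸ N)) he'
          simp only [QuotientGroup.mk_mul, (QuotientGroup.eq_one_iff _).mpr c.2.1,
            (QuotientGroup.eq_one_iff _).mpr c'.2.1, mul_one, hsec2] at h1
          obtain rfl := Subtype.ext h1
          exact Prod.ext rfl (Subtype.ext (mul_left_cancel he'))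
        · rintro ⟨g, hg⟩
          set r : {r : G ⧸ N // r * (x : G ⧸ N) * r⁻¹ ∈ (Pb : Subgroup (G ⧸ N))} := ⟨g, hdown g hg⟩ with hr
          have hc : (sec r)⁻¹ * g ∈ N := QuotientGroup.eq.mp (hsec2 r)
          refine ⟨(r, ⟨(sec r)⁻¹ * g, hc, ?_⟩), Subtype.ext (mul_inv_cancel_left _ _)⟩
          refine Subgroup.mem_centralizer_singleton_iff.mpr ?_
          set c := (sec r)⁻¹ * g with hcdef
          have hd : sec r * (c * x * c⁻¹ * x⁻¹) * (sec r)⁻¹ ∈ (P : Subgroup G) ⊓ N := by
            refine ⟨?_, hN.conj_mem _ ?_ _⟩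
            · rw [show sec r * (c * x * c⁻¹ * x⁻¹) * (sec r)⁻¹ =
                (g * x * g⁻¹) * (sec r * x * (sec r)⁻¹)⁻¹ by rw [hcdef]; group]
              exact (P : Subgroup G).mul_mem hg ((P : Subgroup G).inv_mem (hsec1 r))
            · rw [show c * x * c⁻¹ * x⁻¹ = c * (x * c⁻¹ * x⁻¹) by group]
              exact N.mul_mem hc (hN.conj_mem _ (N.inv_mem hc) x)
          rw [hPN, Subgroup.mem_bot, conj_eq_one_iff, mul_inv_eq_one, mul_inv_eq_iff_eq_mul] at hd
          exact hd
      have hN' : Nat.card (Subgroup.normalizer ((P : Subgroup G) : Set G)) =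
          Nat.card (Subgroup.normalizer ((Pb : Subgroup (G ⧸ N)) : Set (G ⧸ N))) *
            Nat.card (N ⊓ Subgroup.centralizer ((P : Subgroup G) : Set G) : Subgroup G) := by
        set f := (QuotientGroup.mk' N).comp (Subgroup.normalizer ((P : Subgroup G) : Set G)).subtype with hf
        have hrange : f.range = Subgroup.normalizer ((Pb : Subgroup (G ⧸ N)) : Set (G ⧸ N)) := by
          rw [hf, MonoidHom.range_comp, Subgroup.range_subtype, hPbc, normalizer_map_mk' N hNc P.2]
        have hker : Nat.card f.ker =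
            Nat.card (N ⊓ Subgroup.centralizer ((P : Subgroup G) : Set G) : Subgroup G) := by
          refine Nat.card_congr
            { toFun := fun g => ⟨g.1.1, (QuotientGroup.eq_one_iff _).mp g.2, ?_⟩
              invFun := fun v => ⟨⟨v.1, Subgroup.centralizer_le_normalizer _ v.2.2⟩,
                (QuotientGroup.eq_one_iff _).mpr v.2.1⟩
              left_inv := fun g => rfl
              right_inv := fun v => rfl }
          refine Subgroup.mem_centralizer_iff.mpr fun y hy => ?_
          have hgN : (g.1 : G) ∈ N := (QuotientGroup.eq_one_iff _).mp g.2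
          have h1 : (g.1 : G) * y * (g.1 : G)⁻¹ * y⁻¹ ∈ (P : Subgroup G) ⊓ N := by
            refine ⟨(P : Subgroup G).mul_mem ((Subgroup.mem_normalizer_iff.mp g.1.2 y).mp hy) ((P : Subgroup G).inv_mem hy), ?_⟩
            rw [show (g.1 : G) * y * (g.1 : G)⁻¹ * y⁻¹ = (g.1 : G) * (y * (g.1 : G)⁻¹ * y⁻¹) by group]
            exact N.mul_mem hgN (hN.conj_mem _ (N.inv_mem hgN) y)
          rw [hPN, Subgroup.mem_bot, mul_inv_eq_one, mul_inv_eq_iff_eq_mul] at h1
          exact h1.symm
        rw [← hrange, ← hker, ← Subgroup.index_ker, mul_comm]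
        exact f.ker.card_mul_index.symm
      have hcP : Fintype.card (P : Subgroup G) = Fintype.card (Pb : Subgroup (G ⧸ N)) :=
        Fintype.card_congr (Equiv.ofBijective πP ⟨hπi, hπs⟩)
      have hprod : ∏ x : (P : Subgroup G), hits (Pb : Subgroup (G ⧸ N)) (((x : G) : G ⧸ N)) =
          ∏ y : (Pb : Subgroup (G ⧸ N)), hits (Pb : Subgroup (G ⧸ N)) (y : G ⧸ N) :=
        Fintype.prod_equiv (Equiv.ofBijective πP ⟨hπi, hπs⟩) _ _ fun x => rfl
      rw [Finset.prod_congr rfl fun (x : (P : Subgroup G)) _ => hhit x x.2, Finset.prod_mul_distrib,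
        mul_pow, hprod, hN', hcardG, mul_pow, mul_pow, hcP]
      refine (Nat.mul_le_mul IH (prod_card_inf_centralizer_le (P : Subgroup G) N P.2 hNc)).trans_eq ?_
      rw [hcP]
      ring

end Cfsg.Agent.Lib.PSolvable
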